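import Mathlib
import Cfsg.Agent.Lib.Helper75.APair.Defs

/-!
# APAIR (S2276): the common core of the packages [EQ] and [C1]

`core`: if `a * μ = δ * c` with `δ = (e₂ e₄)(e₁ e₃)` (`e_i = a^i x₀`, the period of `x₀` odd and at
least 5), `c` commuting with `δ` and of odd exponent, then `PP p a μ` (for odd `p`).
-/

set_option autoImplicit false

namespace Cfsg.Agent.Lib.Helper84.APair

open Equiv Cfsg.Agent.Lib.Helper75.APair

variable {Δ : Type} [DecidableEq Δ]

/-- swaps go to swaps under `viaEmbeddingHom`. -/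
theorem via_swap {α : Type} [DecidableEq α] (f : α ↪ Δ) (i j : α) :
    Perm.viaEmbeddingHom f (swap i j) = swap (f i) (f j) := by
  ext x
  by_cases hx : x ∈ Set.range f
  · obtain ⟨k, rfl⟩ := hx
    rw [Perm.viaEmbeddingHom_apply, Perm.viaEmbedding_apply, f.injective.swap_apply]
  · rw [Perm.viaEmbeddingHom_apply, Perm.viaEmbedding_apply_of_notMem _ _ _ hx,
      swap_apply_of_ne_of_ne]
    · rintro rfl; exact hx ⟨i, rfl⟩
    · rintro rfl; exact hx ⟨j, rfl⟩

/-- equal points of an orbit have exponents congruent modulo the period. -/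
theorem pow_apply_eq_dvd (a : Perm Δ) (x₀ : Δ) {i j : ℕ} (hij : i ≤ j)
    (h : (a ^ i) x₀ = (a ^ j) x₀) : Function.minimalPeriod (a : Δ → Δ) x₀ ∣ j - i := by
  have h1 : a ^ j = a ^ i * a ^ (j - i) := by rw [← pow_add, Nat.add_sub_cancel' hij]
  rw [h1, Perm.mul_apply] at h
  have h2 : (a ^ (j - i)) x₀ = x₀ := ((a ^ i).injective h).symm
  apply Function.IsPeriodicPt.minimalPeriod_dvd
  show (a : Δ → Δ)^[j - i] x₀ = x₀
  rw [Perm.iterate_eq_pow]; exact h2

theorem pow_apply_eq_of_lt (a : Perm Δ) (x₀ : Δ) {i j : ℕ} (hij : i ≤ j)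
    (hlt : j - i < Function.minimalPeriod (a : Δ → Δ) x₀)
    (h : (a ^ i) x₀ = (a ^ j) x₀) : i = j := by
  have := Nat.eq_zero_of_dvd_of_lt (pow_apply_eq_dvd a x₀ hij h) hlt
  omega

/-- the embedding `i ↦ a^(i+1) x₀` of `Fin n` when `n` is at most the period. -/
def orbEmb (a : Perm Δ) (x₀ : Δ) (n : ℕ) (hn : n ≤ Function.minimalPeriod (a : Δ → Δ) x₀) :
    Fin n ↪ Δ :=
  ⟨fun i => (a ^ (i.val + 1)) x₀, by
    intro i j hij
    have hij' : (a ^ (i.val + 1)) x₀ = (a ^ (j.val + 1)) x₀ := hij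
    rcases le_total i.val j.val with h | h
    · have := pow_apply_eq_of_lt a x₀ (Nat.succ_le_succ h) (by have := i.2; have := j.2; omega) hij'
      exact Fin.ext (by omega)
    · have := pow_apply_eq_of_lt a x₀ (Nat.succ_le_succ h) (by have := i.2; have := j.2; omega)
        hij'.symm
      exact Fin.ext (by omega)⟩

/-- the embedding `i ↦ a^(2i+1) x₀` of `Fin 5` when the period is odd and at least 5. -/
def oddEmb (a : Perm Δ) (x₀ : Δ) (h5 : 5 ≤ Function.minimalPeriod (a : Δ → Δ) x₀)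
    (ho : Odd (Function.minimalPeriod (a : Δ → Δ) x₀)) : Fin 5 ↪ Δ :=
  ⟨fun i => (a ^ (2 * i.val + 1)) x₀, by
    have key : ∀ i j : ℕ, i ≤ j → j < 5 → (a ^ (2 * i + 1)) x₀ = (a ^ (2 * j + 1)) x₀ → i = j := by
      intro i j hij hj h
      have h1 := pow_apply_eq_dvd a x₀ (show 2 * i + 1 ≤ 2 * j + 1 by omega) h
      have h2 : 2 * j + 1 - (2 * i + 1) = 2 * (j - i) := by omega
      rw [h2] at h1
      have hc : Nat.Coprime (Function.minimalPeriod (a : Δ → Δ) x₀) 2 :=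
        Nat.coprime_two_right.2 ho
      have h3 := hc.dvd_of_dvd_mul_left h1
      have := Nat.eq_zero_of_dvd_of_lt h3 (by omega)
      omega
    intro i j hij
    have hij' : (a ^ (2 * i.val + 1)) x₀ = (a ^ (2 * j.val + 1)) x₀ := hij
    rcases le_total i.val j.val with h | h
    · exact Fin.ext (key _ _ h j.2 hij')
    · exact Fin.ext (key _ _ h i.2 hij'.symm).symm⟩

/-- conjugating a swap of orbit points by `a^k`. -/
theorem conj_swap_pow (a : Perm Δ) (x₀ : Δ) (k i j : ℕ) :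
    a ^ k * swap ((a ^ i) x₀) ((a ^ j) x₀) * (a ^ k)⁻¹ =
      swap ((a ^ (k + i)) x₀) ((a ^ (k + j)) x₀) := by
  rw [← swap_apply_apply, pow_add, pow_add, Perm.mul_apply, Perm.mul_apply]

theorem conj_swap_one (a : Perm Δ) (x₀ : Δ) (i j : ℕ) :
    a * swap ((a ^ i) x₀) ((a ^ j) x₀) * a⁻¹ =
      swap ((a ^ (1 + i)) x₀) ((a ^ (1 + j)) x₀) := by
  have := conj_swap_pow a x₀ 1 i j
  rwa [pow_one] at this

/-- the common core. -/
theorem core (hEven : PkgEven) (hNS5 : PkgNS5) (p : ℕ) (hp : Odd p) (a μ c : Perm Δ) (x₀ : Δ)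
    (hm5 : 5 ≤ Function.minimalPeriod (a : Δ → Δ) x₀)
    (hmo : Odd (Function.minimalPeriod (a : Δ → Δ) x₀))
    (hπ : a * μ = swap ((a ^ 2) x₀) ((a ^ 4) x₀) * swap ((a ^ 1) x₀) ((a ^ 3) x₀) * c)
    (hcomm : Commute (swap ((a ^ 2) x₀) ((a ^ 4) x₀) * swap ((a ^ 1) x₀) ((a ^ 3) x₀)) c)
    (r : ℕ) (hr : Odd r) (hcr : c ^ r = 1) : PP p a μ := by
  classical
  set f : Fin 5 ↪ Δ := orbEmb a x₀ 5 hm5 with hf
  set g : Fin 5 ↪ Δ := oddEmb a x₀ hm5 hmo with hg
  set δ : Perm Δ := swap ((a ^ 2) x₀) ((a ^ 4) x₀) * swap ((a ^ 1) x₀) ((a ^ 3) x₀) with hδ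
  have hδf : δ = swap (f 1) (f 3) * swap (f 0) (f 2) := rfl
  have hδ2 : δ * δ = 1 := by
    rw [hδf]
    have := congrArg (Perm.viaEmbeddingHom f)
      (show (swap (1 : Fin 5) 3 * swap 0 2) * (swap 1 3 * swap 0 2) = 1 by decide)
    simpa [map_mul, via_swap] using this
  have hδ1 : δ ≠ 1 := by
    rw [hδf]
    intro h
    have h1 : Perm.viaEmbeddingHom f (swap (1 : Fin 5) 3 * swap 0 2) = Perm.viaEmbeddingHom f 1 := by
      simpa [map_mul, via_swap] using h
    exact absurd (Perm.viaEmbeddingHom_injective f h1) (by decide)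
  -- the power
  have hpow : (a * μ) ^ r = δ := by
    rw [hπ, hcomm.mul_pow, hcr, mul_one]
    obtain ⟨k, rfl⟩ := hr
    rw [pow_succ, pow_mul, pow_two, hδ2, one_pow, one_mul]
  refine ⟨hEven (Perm Δ) p hp (a * μ) r (by rw [hpow]; exact hδ1)
    (by rw [hpow, pow_two]; exact hδ2), ?_⟩
  -- non-solvability
  set H : Subgroup (Perm Δ) := Subgroup.closure ({a, μ} : Set (Perm Δ)) with hH
  have haH : a ∈ H := Subgroup.subset_closure (by simp)
  have hμH : μ ∈ H := Subgroup.subset_closure (by simp)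
  have hδH : δ ∈ H := by rw [← hpow]; exact H.pow_mem (H.mul_mem haH hμH) r
  have hconj : a * δ * a⁻¹ = swap ((a ^ 3) x₀) ((a ^ 5) x₀) * swap ((a ^ 2) x₀) ((a ^ 4) x₀) := by
    have e1 := conj_swap_one a x₀ 2 4
    have e2 := conj_swap_one a x₀ 1 3
    rw [hδ]
    calc a * (swap ((a ^ 2) x₀) ((a ^ 4) x₀) * swap ((a ^ 1) x₀) ((a ^ 3) x₀)) * a⁻¹
        = (a * swap ((a ^ 2) x₀) ((a ^ 4) x₀) * a⁻¹) * (a * swap ((a ^ 1) x₀) ((a ^ 3) x₀) * a⁻¹) := by
          group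
      _ = _ := by rw [e1, e2]
  have ht : δ * (a * δ * a⁻¹) = swap ((a ^ 1) x₀) ((a ^ 3) x₀) * swap ((a ^ 3) x₀) ((a ^ 5) x₀) := by
    rw [hconj, hδf]
    show (swap (f 1) (f 3) * swap (f 0) (f 2)) * (swap (f 2) (f 4) * swap (f 1) (f 3)) =
      swap (f 0) (f 2) * swap (f 2) (f 4)
    have := congrArg (Perm.viaEmbeddingHom f)
      (show (swap (1 : Fin 5) 3 * swap 0 2) * (swap 2 4 * swap 1 3) = swap 0 2 * swap 2 4 by decide)
    simpa [map_mul, via_swap] using this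
  have htH : swap ((a ^ 1) x₀) ((a ^ 3) x₀) * swap ((a ^ 3) x₀) ((a ^ 5) x₀) ∈ H := by
    rw [← ht]; exact H.mul_mem hδH (H.mul_mem (H.mul_mem haH hδH) (H.inv_mem haH))
  have ht' : a ^ 4 * (swap ((a ^ 1) x₀) ((a ^ 3) x₀) * swap ((a ^ 3) x₀) ((a ^ 5) x₀)) * (a ^ 4)⁻¹ =
      swap ((a ^ 5) x₀) ((a ^ 7) x₀) * swap ((a ^ 7) x₀) ((a ^ 9) x₀) := by
    have e1 := conj_swap_pow a x₀ 4 1 3
    have e2 := conj_swap_pow a x₀ 4 3 5
    calc a ^ 4 * (swap ((a ^ 1) x₀) ((a ^ 3) x₀) * swap ((a ^ 3) x₀) ((a ^ 5) x₀)) * (a ^ 4)⁻¹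
        = (a ^ 4 * swap ((a ^ 1) x₀) ((a ^ 3) x₀) * (a ^ 4)⁻¹) *
            (a ^ 4 * swap ((a ^ 3) x₀) ((a ^ 5) x₀) * (a ^ 4)⁻¹) := by group
      _ = _ := by rw [e1, e2]
  have ht'H : swap ((a ^ 5) x₀) ((a ^ 7) x₀) * swap ((a ^ 7) x₀) ((a ^ 9) x₀) ∈ H := by
    rw [← ht']
    exact H.mul_mem (H.mul_mem (H.pow_mem haH 4) htH) (H.inv_mem (H.pow_mem haH 4))
  have hnd : [g 0, g 1, g 2, g 3, g 4].Nodup := by
    simp [g.injective.eq_iff]
  exact hNS5 Δ H (g 0) (g 1) (g 2) (g 3) (g 4) hnd htH ht'H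

theorem full_inv {a : Perm Δ} (ha : Full a) : Full a⁻¹ :=
  fun x y => Perm.sameCycle_inv.2 (ha x y)

theorem full_conj {a : Perm Δ} (ha : Full a) (θ : Perm Δ) : Full (θ * a * θ⁻¹) :=
  fun _ _ => Perm.sameCycle_conj.2 (ha _ _)

theorem minimalPeriod_pos_perm [Finite Δ] (a : Perm Δ) (x : Δ) :
    0 < Function.minimalPeriod (a : Δ → Δ) x := by
  apply Function.minimalPeriod_pos_of_mem_periodicPts
  apply Function.mk_mem_periodicPts (orderOf_pos a)
  show (a : Δ → Δ)^[orderOf a] x = x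
  rw [Perm.iterate_eq_pow, pow_orderOf_eq_one]; rfl

/-- the period of any point under a full cycle is the cardinality. -/
theorem full_period [Fintype Δ] {a : Perm Δ} (ha : Full a) (x₀ : Δ) :
    Function.minimalPeriod (a : Δ → Δ) x₀ = Fintype.card Δ := by
  set m := Function.minimalPeriod (a : Δ → Δ) x₀ with hm
  have hpos : 0 < m := minimalPeriod_pos_perm a x₀
  apply le_antisymm
  · have hinj : Function.Injective (fun i : Fin m => (a ^ i.val) x₀) := by
      intro i j hij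
      have hij' : (a ^ i.val) x₀ = (a ^ j.val) x₀ := hij
      rcases le_total i.val j.val with h | h
      · exact Fin.ext (pow_apply_eq_of_lt a x₀ h (by have := j.2; omega) hij')
      · exact Fin.ext (pow_apply_eq_of_lt a x₀ h (by have := i.2; omega) hij'.symm).symm
    simpa using Fintype.card_le_of_injective _ hinj
  · have hsurj : Function.Surjective (fun i : Fin m => (a ^ i.val) x₀) := by
      intro y
      obtain ⟨n, hn⟩ := (ha x₀ y).exists_nat_pow_eq
      refine ⟨⟨n % m, Nat.mod_lt _ hpos⟩, ?_⟩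
      show (a ^ (n % m)) x₀ = y
      rw [← hn, ← Perm.iterate_eq_pow, ← Perm.iterate_eq_pow]
      exact Function.iterate_mod_minimalPeriod_eq
    simpa using Fintype.card_le_of_surjective _ hsurj

theorem odd_sum_length {α : Type} (f : α → ℕ) (l : List α) (h : ∀ s ∈ l, Odd (f s)) :
    (l.map f).sum % 2 = l.length % 2 := by
  induction l with
  | nil => simp
  | cons x l ih =>
    have hx : f x % 2 = 1 := Nat.odd_iff.1 (h x (by simp))
    have := ih (fun s hs => h s (by simp [hs]))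
    simp only [List.map_cons, List.sum_cons, List.length_cons]
    omega

end Cfsg.Agent.Lib.Helper84.APair
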