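import Mathlib
import Cfsg.Agent.Lib.Helper75.APair.Defs
import Cfsg.Agent.Lib.Helper84.APair.Core

/-!
# APAIR (S2276): package [C1] (`a` a `p`-element with a cycle of length `≥ 5`, not a full cycle;
`b` a full cycle)
-/

set_option autoImplicit false

namespace Cfsg.Agent.Lib.Helper84.APair

open Equiv Cfsg.Agent.Lib.Helper75.APair

theorem pkgC1 (hTLa : PkgTLa) (hTLb : PkgTLb) (hOC : PkgOC) (hODDC : PkgOddComm) (hFC : PkgFC)
    (hEven : PkgEven) (hNS5 : PkgNS5) : PkgC1 := by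
  intro Δ _ _ p d hp hp3 hcard a b hk hx hnf hb
  classical
  obtain ⟨k, hk'⟩ := hk
  obtain ⟨x₀, hx₀⟩ := hx
  have hpodd : Odd p := hp.odd_of_ne_two (by omega)
  have hper : ∀ x, Odd (Function.minimalPeriod (a : Δ → Δ) x) := by
    intro x
    have h1 : Function.minimalPeriod (a : Δ → Δ) x ∣ orderOf a := by
      apply Function.IsPeriodicPt.minimalPeriod_dvd
      show (a : Δ → Δ)^[orderOf a] x = x
      rw [Perm.iterate_eq_pow, pow_orderOf_eq_one]; rfl
    rw [hk'] at h1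
    exact Odd.of_dvd_nat hpodd.pow h1
  obtain ⟨l₁, hreps, hsum⟩ := hTLa Δ a [x₀] (List.nodup_singleton x₀) (by
    intro s hs s' hs' _
    rw [List.mem_singleton] at hs hs'
    rw [hs, hs'])
  set l : List Δ := [x₀] ++ l₁ with hl
  have hx₀l : x₀ ∈ l := by simp [hl]
  have hν : Full (l.formPerm⁻¹ * a) := hTLb Δ a l hreps
  have hr : Odd l.length := by
    have h1 := odd_sum_length (fun s => Function.minimalPeriod (a : Δ → Δ) s) l
      (fun s _ => hper s)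
    rw [← hsum, hcard] at h1
    have h2 : Odd (p ^ d) := hpodd.pow
    rw [Nat.odd_iff] at h2 ⊢
    omega
  have hcr : l.formPerm ^ l.length = 1 := List.formPerm_pow_length_eq_one_of_nodup l hreps.1
  have hfix : ∀ i, 0 < i → i < 5 → l.formPerm ((a ^ i) x₀) = (a ^ i) x₀ := by
    intro i hi0 hi5
    apply List.formPerm_apply_of_notMem
    intro hmem
    have hsc : a.SameCycle x₀ ((a ^ i) x₀) := ⟨(i : ℤ), by rw [zpow_natCast]⟩
    have heq := hreps.2.1 x₀ hx₀l _ hmem hsc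
    have h0 : (a ^ 0) x₀ = (a ^ i) x₀ := by rw [pow_zero]; exact heq
    have := pow_apply_eq_of_lt a x₀ (Nat.zero_le i) (by omega) h0
    omega
  have hcs : ∀ i j, 0 < i → i < 5 → 0 < j → j < 5 →
      Commute (swap ((a ^ i) x₀) ((a ^ j) x₀)) l.formPerm := by
    intro i j hi0 hi5 hj0 hj5
    have h1 := swap_apply_apply l.formPerm ((a ^ i) x₀) ((a ^ j) x₀)
    rw [hfix i hi0 hi5, hfix j hj0 hj5] at h1
    show swap ((a ^ i) x₀) ((a ^ j) x₀) * l.formPerm = l.formPerm * swap ((a ^ i) x₀) ((a ^ j) x₀)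
    calc swap ((a ^ i) x₀) ((a ^ j) x₀) * l.formPerm
        = (l.formPerm * swap ((a ^ i) x₀) ((a ^ j) x₀) * l.formPerm⁻¹) * l.formPerm := by
          rw [← h1]
      _ = _ := by group
  set c : Perm Δ := l.formPerm with hc
  have hμFull : Full (swap ((a ^ 1) x₀) ((a ^ 3) x₀) * (c⁻¹ * a)⁻¹ *
      (swap ((a ^ 1) x₀) ((a ^ 3) x₀))⁻¹) := full_conj (full_inv hν) _
  obtain ⟨g, hg⟩ := hFC Δ _ b hμFull hb
  have hPP : PP p a (swap ((a ^ 1) x₀) ((a ^ 3) x₀) * (c⁻¹ * a)⁻¹ *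
      (swap ((a ^ 1) x₀) ((a ^ 3) x₀))⁻¹) := by
    refine core hEven hNS5 p hpodd a _ c x₀ hx₀ (hper x₀) ?_ ?_ l.length hr hcr
    · have e1 := conj_swap_one a x₀ 1 3
      have e2 : Commute (swap ((a ^ 1) x₀) ((a ^ 3) x₀)) c :=
        hcs 1 3 (by norm_num) (by norm_num) (by norm_num) (by norm_num)
      rw [swap_inv]
      calc a * (swap ((a ^ 1) x₀) ((a ^ 3) x₀) * (c⁻¹ * a)⁻¹ * swap ((a ^ 1) x₀) ((a ^ 3) x₀))
          = (a * swap ((a ^ 1) x₀) ((a ^ 3) x₀) * a⁻¹) *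
              (c * swap ((a ^ 1) x₀) ((a ^ 3) x₀)) := by group
        _ = swap ((a ^ 2) x₀) ((a ^ 4) x₀) * (swap ((a ^ 1) x₀) ((a ^ 3) x₀) * c) := by
            rw [e1, e2.eq]
        _ = _ := by rw [mul_assoc]
    · exact (hcs 2 4 (by norm_num) (by norm_num) (by norm_num) (by norm_num)).mul_left
        (hcs 1 3 (by norm_num) (by norm_num) (by norm_num) (by norm_num))
  obtain ⟨σ, hσ, hσa⟩ := hOC Δ p d hp hp3 hcard a ⟨k, hk'⟩ hnf
  exact hODDC Δ p a b g σ (by rw [hg]; exact hPP) hσ hσa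

end Cfsg.Agent.Lib.Helper84.APair
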