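import Mathlib
import Cfsg.Agent.Lib.Helper75.APair.Defs
import Cfsg.Agent.Lib.Helper75.APair.Defs2
import Cfsg.Agent.Lib.Helper84.APair.Core

/-!
# APAIR (S2276): package [C3A] (`a` a single 3-cycle on `3^d ≥ 9` points, `b` a full cycle)
-/

set_option autoImplicit false

namespace Cfsg.Agent.Lib.Helper84.APair

open Equiv Cfsg.Agent.Lib.Helper75.APair

theorem conj_two_swaps {Δ : Type} [DecidableEq Δ] (g : Perm Δ) (x y z w : Δ) :
    g * (swap x y * swap z w) * g⁻¹ = swap (g x) (g y) * swap (g z) (g w) := by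
  rw [swap_apply_apply, swap_apply_apply]; group

theorem sum_map_eq_length {α : Type} (f : α → ℕ) (l : List α) (h : ∀ s ∈ l, f s = 1) :
    (l.map f).sum = l.length := by
  induction l with
  | nil => simp
  | cons x l ih =>
    have hx : f x = 1 := h x (by simp)
    have := ih (fun s hs => h s (by simp [hs]))
    simp only [List.map_cons, List.sum_cons, List.length_cons]
    omega

theorem pkgC3A (hTLa : PkgTLa) (hTLb : PkgTLb) (hFC : PkgFC) (hNS5 : PkgNS5)
    (hODDC : PkgOddComm) : PkgC3A := by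
  intro Δ _ _ d hcard h9 a b s₁ ha3 hs₁ hfix hb
  classical
  set a₁ : Δ := a s₁ with ha₁
  set b₁ : Δ := a a₁ with hb₁
  have hab : a b₁ = s₁ := by
    have h : (a ^ 3) s₁ = s₁ := by rw [ha3]; rfl
    have h' : a ^ 3 = a * (a * a) := by rw [pow_succ, pow_two, mul_assoc]
    rw [h', Perm.mul_apply, Perm.mul_apply] at h
    exact h
  have h1 : a₁ ≠ s₁ := hs₁
  have h2 : b₁ ≠ a₁ := fun h => hs₁ (a.injective h)
  have h3 : b₁ ≠ s₁ := fun h => by
    have h4 : a b₁ = a₁ := by rw [h]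
    rw [hab] at h4; exact hs₁ h4.symm
  -- two fixed points
  obtain ⟨f₁, -, hf₁⟩ : ∃ x, x ∈ (Finset.univ : Finset Δ) ∧ x ∉ ({s₁, a₁, b₁} : Finset Δ) := by
    apply Finset.exists_mem_notMem_of_card_lt_card
    have := Finset.card_le_three (a := s₁) (b := a₁) (c := b₁)
    rw [Finset.card_univ]; omega
  obtain ⟨f₂, -, hf₂⟩ : ∃ x, x ∈ (Finset.univ : Finset Δ) ∧
      x ∉ ({s₁, a₁, b₁, f₁} : Finset Δ) := by
    apply Finset.exists_mem_notMem_of_card_lt_card
    have := Finset.card_le_four (a := s₁) (b := a₁) (c := b₁) (d := f₁)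
    rw [Finset.card_univ]; omega
  simp only [Finset.mem_insert, Finset.mem_singleton, not_or] at hf₁ hf₂
  obtain ⟨hf₁s, hf₁a, hf₁b⟩ := hf₁
  obtain ⟨hf₂s, hf₂a, hf₂b, hf₂f⟩ := hf₂
  have haf₁ : a f₁ = f₁ := hfix f₁ hf₁s hf₁a hf₁b
  have haf₂ : a f₂ = f₂ := hfix f₂ hf₂s hf₂a hf₂b
  -- `a` as a product of swaps
  have ha_eq : a = swap s₁ a₁ * swap a₁ b₁ := by
    ext x
    rw [Perm.mul_apply]
    by_cases hx1 : x = s₁
    · rw [hx1, swap_apply_of_ne_of_ne (Ne.symm h1) (Ne.symm h3), swap_apply_left]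
    · by_cases hx2 : x = a₁
      · rw [hx2, swap_apply_left, swap_apply_of_ne_of_ne h3 h2]
      · by_cases hx3 : x = b₁
        · rw [hx3, swap_apply_right, swap_apply_right, hab]
        · rw [swap_apply_of_ne_of_ne hx2 hx3, swap_apply_of_ne_of_ne hx1 hx2, hfix x hx1 hx2 hx3]
  -- the embedding of `Fin 5`
  have e01 : s₁ ≠ a₁ := Ne.symm h1
  have e02 : s₁ ≠ b₁ := Ne.symm h3
  have e03 : s₁ ≠ f₁ := Ne.symm hf₁s
  have e04 : s₁ ≠ f₂ := Ne.symm hf₂s
  have e12 : a₁ ≠ b₁ := Ne.symm h2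
  have e13 : a₁ ≠ f₁ := Ne.symm hf₁a
  have e14 : a₁ ≠ f₂ := Ne.symm hf₂a
  have e23 : b₁ ≠ f₁ := Ne.symm hf₁b
  have e24 : b₁ ≠ f₂ := Ne.symm hf₂b
  have e34 : f₁ ≠ f₂ := Ne.symm hf₂f
  have hnd5 : [s₁, a₁, b₁, f₁, f₂].Nodup := by
    simp [e01, e02, e03, e04, e12, e13, e14, e23, e24, e34]
  let f : Fin 5 ↪ Δ := ⟨fun i => [s₁, a₁, b₁, f₁, f₂].get i, List.nodup_iff_injective_get.1 hnd5⟩
  have hf0 : f 0 = s₁ := rfl
  have hf1 : f 1 = a₁ := rfl
  have hf2 : f 2 = b₁ := rfl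
  have hf3 : f 3 = f₁ := rfl
  have hf4 : f 4 = f₂ := rfl
  -- representatives
  obtain ⟨l₁, hreps, hsum⟩ := hTLa Δ a [s₁, f₁, f₂] (by
      simp [e03, e04, e34]) (by
      intro s hs s' hs' hsc
      simp only [List.mem_cons, List.not_mem_nil, or_false] at hs hs'
      rcases hs with rfl | rfl | rfl
      · rcases hs' with rfl | rfl | rfl
        · rfl
        · exact hsc.eq_of_right haf₁
        · exact hsc.eq_of_right haf₂
      · exact hsc.eq_of_left haf₁
      · exact hsc.eq_of_left haf₂)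
  set l : List Δ := [s₁, f₁, f₂] ++ l₁ with hl
  have hl' : l = s₁ :: f₁ :: f₂ :: l₁ := rfl
  have hs₁l : s₁ ∈ l := by rw [hl']; simp
  have ha₁l : a₁ ∉ l := by
    intro hmem
    have hsc : a.SameCycle s₁ a₁ := ⟨1, by rw [zpow_one]⟩
    exact h1 (hreps.2.1 s₁ hs₁l a₁ hmem hsc).symm
  have hb₁l : b₁ ∉ l := by
    intro hmem
    have hsc : a.SameCycle s₁ b₁ := ⟨2, by
      rw [zpow_two, Perm.mul_apply]⟩
    exact h3 (hreps.2.1 s₁ hs₁l b₁ hmem hsc).symm
  set c : Perm Δ := l.formPerm with hc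
  have hν : Full (c⁻¹ * a) := hTLb Δ a l hreps
  obtain ⟨g, hg⟩ := hFC Δ _ b (full_inv hν) hb
  have hprod : a * (c⁻¹ * a)⁻¹ = c := by group
  have hlen : 3 ≤ l.length := by rw [hl']; simp
  have hndl : (s₁ :: f₁ :: f₂ :: l₁).Nodup := by rw [← hl']; exact hreps.1
  have hc_s₁ : c s₁ = f₁ := List.formPerm_apply_head s₁ f₁ (f₂ :: l₁) hndl
  have hc_f₁ : c f₁ = f₂ := by
    show (s₁ :: f₁ :: f₂ :: l₁).formPerm f₁ = f₂
    rw [List.formPerm_cons_cons, Perm.mul_apply,
      List.formPerm_apply_head f₁ f₂ l₁ (List.nodup_cons.1 hndl).2,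
      swap_apply_of_ne_of_ne hf₂s hf₂f]
  have hc_a₁ : c a₁ = a₁ := List.formPerm_apply_of_notMem ha₁l
  have hc_b₁ : c b₁ = b₁ := List.formPerm_apply_of_notMem hb₁l
  -- the length
  have hr : l.length % 3 = 1 := by
    have hper1 : Function.minimalPeriod (a : Δ → Δ) s₁ = 3 := by
      have h1' : Function.minimalPeriod (a : Δ → Δ) s₁ ∣ 3 := by
        apply Function.IsPeriodicPt.minimalPeriod_dvd
        show (a : Δ → Δ)^[3] s₁ = s₁
        rw [Perm.iterate_eq_pow, ha3]; rfl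
      rcases (Nat.dvd_prime Nat.prime_three).1 h1' with h | h
      · exact absurd (Function.minimalPeriod_eq_one_iff_isFixedPt.1 h) hs₁
      · exact h
    have htail : ∀ s ∈ f₁ :: f₂ :: l₁, Function.minimalPeriod (a : Δ → Δ) s = 1 := by
      intro s hs
      have hsl : s ∈ l := by rw [hl']; exact List.mem_cons_of_mem _ hs
      have hnd : (s₁ :: f₁ :: f₂ :: l₁).Nodup := by rw [← hl']; exact hreps.1
      have hs1 : s ≠ s₁ := fun h => (List.nodup_cons.1 hnd).1 (h ▸ hs)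
      have hs2 : s ≠ a₁ := fun h => ha₁l (h ▸ hsl)
      have hs3 : s ≠ b₁ := fun h => hb₁l (h ▸ hsl)
      exact Function.minimalPeriod_eq_one_iff_isFixedPt.2 (hfix s hs1 hs2 hs3)
    have hsum' := sum_map_eq_length (fun s => Function.minimalPeriod (a : Δ → Δ) s) _ htail
    have hsum2 : Fintype.card Δ = 3 + (f₁ :: f₂ :: l₁).length := by
      rw [hsum]
      show ((s₁ :: f₁ :: f₂ :: l₁).map (fun s => Function.minimalPeriod (a : Δ → Δ) s)).sum = _
      rw [List.map_cons, List.sum_cons, hsum', hper1]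
    have hlen' : l.length = (f₁ :: f₂ :: l₁).length + 1 := by rw [hl']; rfl
    have h3d : 3 ∣ Fintype.card Δ := by
      rw [hcard]
      rcases d with _ | d
      · simp [hcard] at h9
      · exact dvd_pow_self 3 (Nat.succ_ne_zero d)
    omega
  have hcr : c ^ l.length = 1 := List.formPerm_pow_length_eq_one_of_nodup l hreps.1
  have hPP : PP 3 a (c⁻¹ * a)⁻¹ := by
    refine ⟨?_, ?_⟩
    · rw [hprod]
      rintro ⟨k, hk⟩
      have hdvd : orderOf c ∣ l.length := orderOf_dvd_of_pow_eq_one hcr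
      rcases k with _ | k
      · rw [pow_zero, orderOf_eq_one_iff] at hk
        rw [hk, Perm.one_apply] at hc_s₁
        exact hf₁s hc_s₁.symm
      · have h3 : 3 ∣ l.length := by
          refine dvd_trans ?_ hdvd
          rw [hk]; exact dvd_pow_self 3 (Nat.succ_ne_zero k)
        omega
    · set H : Subgroup (Perm Δ) := Subgroup.closure ({a, (c⁻¹ * a)⁻¹} : Set (Perm Δ)) with hH
      have haH : a ∈ H := Subgroup.subset_closure (by simp)
      have hμH : (c⁻¹ * a)⁻¹ ∈ H := Subgroup.subset_closure (by simp)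
      have hcH : c ∈ H := by rw [← hprod]; exact H.mul_mem haH hμH
      have hconj : c * a * c⁻¹ = swap (f 3) (f 1) * swap (f 1) (f 2) := by
        have := conj_two_swaps c s₁ a₁ a₁ b₁
        rw [← ha_eq, hc_s₁, hc_a₁, hc_b₁] at this
        exact this
      have hc2s : (c ^ 2) s₁ = f₂ := by
        rw [pow_two, Perm.mul_apply, hc_s₁, hc_f₁]
      have hc2a : (c ^ 2) a₁ = a₁ := by
        rw [pow_two, Perm.mul_apply, hc_a₁, hc_a₁]
      have hc2b : (c ^ 2) b₁ = b₁ := by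
        rw [pow_two, Perm.mul_apply, hc_b₁, hc_b₁]
      have hconj2 : c ^ 2 * a * (c ^ 2)⁻¹ = swap (f 4) (f 1) * swap (f 1) (f 2) := by
        have := conj_two_swaps (c ^ 2) s₁ a₁ a₁ b₁
        rw [← ha_eq, hc2s, hc2a, hc2b] at this
        exact this
      have ht₁ : a * (c * a * c⁻¹)⁻¹ = swap (f 3) (f 0) * swap (f 0) (f 1) := by
        rw [hconj]
        have haf : a = swap (f 0) (f 1) * swap (f 1) (f 2) := ha_eq
        rw [haf]
        have := congrArg (Perm.viaEmbeddingHom f)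
          (show (swap (0 : Fin 5) 1 * swap 1 2) * (swap 3 1 * swap 1 2)⁻¹ =
            swap 3 0 * swap 0 1 by decide)
        simpa [map_mul, map_inv, via_swap] using this
      have ht₂ : c ^ 2 * a * (c ^ 2)⁻¹ = swap (f 1) (f 2) * swap (f 2) (f 4) := by
        rw [hconj2]
        have := congrArg (Perm.viaEmbeddingHom f)
          (show swap (4 : Fin 5) 1 * swap 1 2 = swap 1 2 * swap 2 4 by decide)
        simpa [map_mul, via_swap] using this
      have ht₁H : swap (f 3) (f 0) * swap (f 0) (f 1) ∈ H := by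
        rw [← ht₁]
        exact H.mul_mem haH (H.inv_mem (H.mul_mem (H.mul_mem hcH haH) (H.inv_mem hcH)))
      have ht₂H : swap (f 1) (f 2) * swap (f 2) (f 4) ∈ H := by
        rw [← ht₂]
        exact H.mul_mem (H.mul_mem (H.pow_mem hcH 2) haH) (H.inv_mem (H.pow_mem hcH 2))
      have hnd : [f 3, f 0, f 1, f 2, f 4].Nodup := by
        simp [f.injective.eq_iff]
      exact hNS5 Δ H (f 3) (f 0) (f 1) (f 2) (f 4) hnd ht₁H ht₂H
  -- parity
  have hσ : Perm.sign (swap f₁ f₂) = -1 := Perm.sign_swap (Ne.symm hf₂f)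
  have hσa : swap f₁ f₂ * a = a * swap f₁ f₂ := by
    have h := swap_apply_apply a f₁ f₂
    rw [haf₁, haf₂] at h
    calc swap f₁ f₂ * a = (a * swap f₁ f₂ * a⁻¹) * a := by rw [← h]
      _ = _ := by group
  exact hODDC Δ 3 a b g (swap f₁ f₂) (by rw [hg]; exact hPP) hσ hσa

end Cfsg.Agent.Lib.Helper84.APair
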