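import Mathlib
import Cfsg.Agent.Lib.Helper75.APair.Defs
import Cfsg.Agent.Lib.Helper75.APair.Defs2
import Cfsg.Agent.Lib.Helper84.APair.Core

/-!
# APAIR (S2276): package [C3C] (`a` of order 3 without fixed points on 9 points, `b` a full cycle)
-/

set_option autoImplicit false

namespace Cfsg.Agent.Lib.Helper84.APair

open Equiv Cfsg.Agent.Lib.Helper75.APair

/-- the model `(0 1 2)(3 4 5)(6 7 8)`. -/
def A9 : Perm (Fin 9) := (swap 0 1 * swap 1 2) * (swap 3 4 * swap 4 5) * (swap 6 7 * swap 7 8)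

/-- the 9-cycle `0→7→5→4→1→2→3→6→8→0`. -/
def B9 : Perm (Fin 9) :=
  swap 0 7 * swap 7 5 * swap 5 4 * swap 4 1 * swap 1 2 * swap 2 3 * swap 3 6 * swap 6 8

/-- the conjugator `k ↦ B9^k 0`. -/
def G9 : Perm (Fin 9) :=
  ⟨![0, 7, 5, 4, 1, 2, 3, 6, 8], ![0, 4, 5, 6, 3, 2, 7, 1, 8], by decide, by decide⟩

/-- an odd permutation commuting with `A9`. -/
def S9 : Perm (Fin 9) := swap 0 3 * swap 1 4 * swap 2 5

theorem g9_conj : G9 * finRotate 9 * G9⁻¹ = B9 := by decide +kernel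

theorem a9b9_cube_ne : (A9 * B9) ^ 3 ≠ 1 := by decide +kernel

theorem a9b9_cube_sq : ((A9 * B9) ^ 3) ^ 2 = 1 := by decide +kernel

theorem a9b9_sq : swap (1 : Fin 9) 8 * swap 8 0 = (A9 * B9) ^ 2 := by decide +kernel

theorem b9a9_sq : swap (0 : Fin 9) 7 * swap 7 2 = B9 * A9 * B9 * A9 := by decide +kernel

theorem s9_comm : S9 * A9 = A9 * S9 := by decide +kernel

theorem s9_sign : Perm.sign S9 = -1 := by
  unfold S9
  rw [Perm.sign_mul, Perm.sign_mul, Perm.sign_swap (by decide), Perm.sign_swap (by decide),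
    Perm.sign_swap (by decide)]
  decide

theorem a9_spec : ∀ k : Fin 9, (A9 k).val / 3 = k.val / 3 ∧ (A9 k).val % 3 = (k.val % 3 + 1) % 3 := by
  decide

theorem good9 (hEven : PkgEven) (hNS5 : PkgNS5) (hODDC : PkgOddComm) :
    Good 3 A9 (finRotate 9) := by
  have hPP : PP 3 A9 B9 := by
    refine ⟨hEven (Perm (Fin 9)) 3 ⟨1, rfl⟩ (A9 * B9) 3 a9b9_cube_ne a9b9_cube_sq, ?_⟩
    have hA : A9 ∈ Subgroup.closure ({A9, B9} : Set (Perm (Fin 9))) :=
      Subgroup.subset_closure (by simp)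
    have hB : B9 ∈ Subgroup.closure ({A9, B9} : Set (Perm (Fin 9))) :=
      Subgroup.subset_closure (by simp)
    have h1 : swap (1 : Fin 9) 8 * swap 8 0 ∈
        Subgroup.closure ({A9, B9} : Set (Perm (Fin 9))) := by
      rw [a9b9_sq]; exact Subgroup.pow_mem _ (Subgroup.mul_mem _ hA hB) 2
    have h2 : swap (0 : Fin 9) 7 * swap 7 2 ∈
        Subgroup.closure ({A9, B9} : Set (Perm (Fin 9))) := by
      rw [b9a9_sq]
      exact Subgroup.mul_mem _ (Subgroup.mul_mem _ (Subgroup.mul_mem _ hB hA) hB) hA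
    exact hNS5 (Fin 9) _ 1 8 0 7 2 (by decide) h1 h2
  exact hODDC (Fin 9) 3 A9 (finRotate 9) G9 S9 (by rw [g9_conj]; exact hPP) s9_sign s9_comm

theorem pkgC3C (hRL : PkgRL) (hRedB : PkgRedB) (hTLa : PkgTLa) (hEven : PkgEven) (hNS5 : PkgNS5)
    (hODDC : PkgOddComm) : PkgC3C := by
  intro Δ _ _ hcard a b ha3 hfpf hb
  classical
  have hper : ∀ x, Function.minimalPeriod (a : Δ → Δ) x = 3 := by
    intro x
    have h1 : Function.minimalPeriod (a : Δ → Δ) x ∣ 3 := by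
      apply Function.IsPeriodicPt.minimalPeriod_dvd
      show (a : Δ → Δ)^[3] x = x
      rw [Perm.iterate_eq_pow, ha3]; rfl
    rcases (Nat.dvd_prime Nat.prime_three).1 h1 with h | h
    · exact absurd (Function.minimalPeriod_eq_one_iff_isFixedPt.1 h) (hfpf x)
    · exact h
  obtain ⟨l, hreps, hsum⟩ := hTLa Δ a [] List.nodup_nil (by simp)
  rw [List.nil_append] at hreps hsum
  have hlen : l.length = 3 := by
    have h1 : (l.map (fun s => Function.minimalPeriod (a : Δ → Δ) s)).sum = 3 * l.length := by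
      rw [List.sum_eq_card_nsmul _ 3 (by
        intro x hx
        obtain ⟨s, _, rfl⟩ := List.mem_map.1 hx
        exact hper s)]
      simp [mul_comm]
    omega
  have hsinj : ∀ (j j' : ℕ) (hj : j < l.length) (hj' : j' < l.length),
      a.SameCycle (l[j]) (l[j']) → j = j' := by
    intro j j' hj hj' h
    have h1 := hreps.2.1 _ (List.getElem_mem hj) _ (List.getElem_mem hj') h
    exact (List.Nodup.getElem_inj_iff hreps.1).1 h1
  have hidx : ∀ k : Fin 9, k.val / 3 < l.length := by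
    intro k; have := k.2; omega
  let ιu : Fin 9 ↪ Δ := ⟨fun k => (a ^ (k.val % 3)) (l[k.val / 3]'(hidx k)), by
    intro k k' h
    have h' : (a ^ (k.val % 3)) (l[k.val / 3]'(hidx k)) =
        (a ^ (k'.val % 3)) (l[k'.val / 3]'(hidx k')) := h
    have hsc : a.SameCycle (l[k.val / 3]'(hidx k)) (l[k'.val / 3]'(hidx k')) := by
      refine ⟨(-((k'.val % 3 : ℕ) : ℤ)) + ((k.val % 3 : ℕ) : ℤ), ?_⟩
      rw [zpow_add, Perm.mul_apply, zpow_natCast, h', zpow_neg, zpow_natCast]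
      simp
    have hj : k.val / 3 = k'.val / 3 := hsinj _ _ (hidx k) (hidx k') hsc
    have h'' : (a ^ (k.val % 3)) (l[k.val / 3]'(hidx k)) =
        (a ^ (k'.val % 3)) (l[k.val / 3]'(hidx k)) := by
      rw [h']; congr 2; exact hj.symm
    have hi : k.val % 3 = k'.val % 3 := by
      rcases le_total (k.val % 3) (k'.val % 3) with h1 | h1
      · exact pow_apply_eq_of_lt a _ h1 (by rw [hper]; omega) h''
      · exact (pow_apply_eq_of_lt a _ h1 (by rw [hper]; omega) h''.symm).symm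
    exact Fin.ext (by omega)⟩
  have hιu : ∀ k, a (ιu k) = ιu (A9 k) := by
    intro k
    obtain ⟨h1, h2⟩ := a9_spec k
    show a ((a ^ (k.val % 3)) (l[k.val / 3]'(hidx k))) =
      (a ^ ((A9 k).val % 3)) (l[(A9 k).val / 3]'(hidx (A9 k)))
    have e1 : l[(A9 k).val / 3]'(hidx (A9 k)) = l[k.val / 3]'(hidx k) := by
      congr 1
    rw [e1, h2, ← pow_eq_pow_mod (k.val % 3 + 1) ha3, pow_succ', Perm.mul_apply]
  obtain ⟨y₀⟩ : Nonempty Δ := Fintype.card_pos_iff.1 (by omega)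
  have hperb : Function.minimalPeriod (b : Δ → Δ) y₀ = 9 := by rw [full_period hb y₀, hcard]
  obtain ⟨ιw, hιw⟩ := hRedB Δ b y₀ 9 hperb
  exact hRL Δ (Fin 9) 3 Nat.prime_three a b A9 (finRotate 9) ιu ιw hιu hιw
    (good9 hEven hNS5 hODDC)

end Cfsg.Agent.Lib.Helper84.APair
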