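import Mathlib
import Cfsg.Agent.Lib.Helper75.APair.Defs
import Cfsg.Agent.Lib.Helper84.APair.Core

/-!
# APAIR (S2276): package [EQ] (two full cycles on `p^d ≥ 5` points)
-/

set_option autoImplicit false

namespace Cfsg.Agent.Lib.Helper84.APair

open Equiv Cfsg.Agent.Lib.Helper75.APair

theorem pkgEQ (hFC : PkgFC) (hEven : PkgEven) (hNS5 : PkgNS5) : PkgEQ := by
  intro Δ _ _ p d hp hp3 hcard h5 a b ha hb
  classical
  obtain ⟨x₀⟩ : Nonempty Δ := Fintype.card_pos_iff.1 (by omega)
  have hm : Function.minimalPeriod (a : Δ → Δ) x₀ = Fintype.card Δ := full_period ha x₀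
  have hpodd : Odd p := hp.odd_of_ne_two (by omega)
  have hodd : Odd (Fintype.card Δ) := by rw [hcard]; exact hpodd.pow
  have hm5 : 5 ≤ Function.minimalPeriod (a : Δ → Δ) x₀ := by rw [hm]; exact h5
  have hmo : Odd (Function.minimalPeriod (a : Δ → Δ) x₀) := by rw [hm]; exact hodd
  obtain ⟨g₀, hg₀⟩ := hFC Δ a⁻¹ b (full_inv ha) hb
  -- variant 1
  have h1 : PP p a (swap ((a ^ 1) x₀) ((a ^ 3) x₀) * a⁻¹ *
      (swap ((a ^ 1) x₀) ((a ^ 3) x₀))⁻¹) := by
    refine core hEven hNS5 p hpodd a _ 1 x₀ hm5 hmo ?_ (Commute.one_right _) 1 odd_one (one_pow 1)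
    rw [mul_one, swap_inv]
    have e1 := conj_swap_one a x₀ 1 3
    calc a * (swap ((a ^ 1) x₀) ((a ^ 3) x₀) * a⁻¹ * swap ((a ^ 1) x₀) ((a ^ 3) x₀))
        = (a * swap ((a ^ 1) x₀) ((a ^ 3) x₀) * a⁻¹) * swap ((a ^ 1) x₀) ((a ^ 3) x₀) := by group
      _ = _ := by rw [e1]
  have hne13 : (a ^ 1) x₀ ≠ (a ^ 3) x₀ := fun h => by
    have := pow_apply_eq_of_lt a x₀ (by norm_num : 1 ≤ 3) (by omega) h
    omega
  have hs1 : Perm.sign (swap ((a ^ 1) x₀) ((a ^ 3) x₀)) = -1 := Perm.sign_swap hne13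
  -- variant 2: an even θ₂ with PP p a (θ₂ a⁻¹ θ₂⁻¹)
  have h2 : ∃ θ₂ : Perm Δ, Perm.sign θ₂ = 1 ∧ PP p a (θ₂ * a⁻¹ * θ₂⁻¹) := by
    by_cases hp3' : p = 3
    · subst hp3'
      have h9 : 7 ≤ Function.minimalPeriod (a : Δ → Δ) x₀ := by
        rw [hm, hcard]
        rcases d with _ | _ | d
        · simp [hcard] at h5
        · simp [hcard] at h5
        · have : 3 ^ 2 ≤ 3 ^ (d + 2) := Nat.pow_le_pow_right (by norm_num) (by omega)
          omega
      set h : Fin 7 ↪ Δ := orbEmb a x₀ 7 h9 with hh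
      refine ⟨swap (h 0) (h 2) * swap (h 4) (h 5), ?_, ?_⟩
      · rw [Perm.sign_mul, Perm.sign_swap (by simp [h.injective.eq_iff]),
          Perm.sign_swap (by simp [h.injective.eq_iff])]
        simp
      · refine core hEven hNS5 3 hpodd a _ (swap (h 5) (h 6) * swap (h 4) (h 5)) x₀ hm5 hmo
          ?_ ?_ 3 ⟨1, rfl⟩ ?_
        · have e1 := conj_swap_one a x₀ 1 3
          have e2 := conj_swap_one a x₀ 5 6
          have e3 : a * (swap (h 0) (h 2) * swap (h 4) (h 5)) * a⁻¹ =
              swap (h 1) (h 3) * swap (h 5) (h 6) := by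
            calc a * (swap (h 0) (h 2) * swap (h 4) (h 5)) * a⁻¹
                = (a * swap ((a ^ 1) x₀) ((a ^ 3) x₀) * a⁻¹) *
                    (a * swap ((a ^ 5) x₀) ((a ^ 6) x₀) * a⁻¹) := by
                  show a * (swap ((a ^ 1) x₀) ((a ^ 3) x₀) * swap ((a ^ 5) x₀) ((a ^ 6) x₀)) * a⁻¹ = _
                  group
              _ = _ := by rw [e1, e2]; rfl
          show a * (swap (h 0) (h 2) * swap (h 4) (h 5) * a⁻¹ *
              (swap (h 0) (h 2) * swap (h 4) (h 5))⁻¹) =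
            swap (h 1) (h 3) * swap (h 0) (h 2) * (swap (h 5) (h 6) * swap (h 4) (h 5))
          have e4 : a * (swap (h 0) (h 2) * swap (h 4) (h 5) * a⁻¹ *
              (swap (h 0) (h 2) * swap (h 4) (h 5))⁻¹) =
              (a * (swap (h 0) (h 2) * swap (h 4) (h 5)) * a⁻¹) *
                (swap (h 0) (h 2) * swap (h 4) (h 5))⁻¹ := by group
          rw [e4, e3]
          have := congrArg (Perm.viaEmbeddingHom h)
            (show (swap (1 : Fin 7) 3 * swap 5 6) * (swap 0 2 * swap 4 5)⁻¹ =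
              swap 1 3 * swap 0 2 * (swap 5 6 * swap 4 5) by decide)
          simpa [map_mul, map_inv, via_swap] using this
        · show (swap (h 1) (h 3) * swap (h 0) (h 2)) * (swap (h 5) (h 6) * swap (h 4) (h 5)) =
            (swap (h 5) (h 6) * swap (h 4) (h 5)) * (swap (h 1) (h 3) * swap (h 0) (h 2))
          have := congrArg (Perm.viaEmbeddingHom h)
            (show (swap (1 : Fin 7) 3 * swap 0 2) * (swap 5 6 * swap 4 5) =
              (swap 5 6 * swap 4 5) * (swap 1 3 * swap 0 2) by decide)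
          simpa [map_mul, via_swap] using this
        · have := congrArg (Perm.viaEmbeddingHom h)
            (show (swap (5 : Fin 7) 6 * swap 4 5) ^ 3 = 1 by decide)
          simpa [map_mul, map_pow, via_swap] using this
    · -- `p ≠ 3`: a 3-cycle
      set f : Fin 5 ↪ Δ := orbEmb a x₀ 5 hm5 with hf
      refine ⟨swap (f 0) (f 1) * swap (f 1) (f 2), ?_, ?_⟩
      · rw [Perm.sign_mul, Perm.sign_swap (by simp [f.injective.eq_iff]),
          Perm.sign_swap (by simp [f.injective.eq_iff])]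
        simp
      · have e1 := conj_swap_one a x₀ 1 2
        have e2 := conj_swap_one a x₀ 2 3
        have e3 : a * (swap (f 0) (f 1) * swap (f 1) (f 2)) * a⁻¹ =
            swap (f 1) (f 2) * swap (f 2) (f 3) := by
          calc a * (swap (f 0) (f 1) * swap (f 1) (f 2)) * a⁻¹
              = (a * swap ((a ^ 1) x₀) ((a ^ 2) x₀) * a⁻¹) *
                  (a * swap ((a ^ 2) x₀) ((a ^ 3) x₀) * a⁻¹) := by
                show a * (swap ((a ^ 1) x₀) ((a ^ 2) x₀) * swap ((a ^ 2) x₀) ((a ^ 3) x₀)) * a⁻¹ = _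
                group
            _ = _ := by rw [e1, e2]; rfl
        have hπ : a * (swap (f 0) (f 1) * swap (f 1) (f 2) * a⁻¹ *
            (swap (f 0) (f 1) * swap (f 1) (f 2))⁻¹) = swap (f 0) (f 3) * swap (f 3) (f 1) := by
          have e4 : a * (swap (f 0) (f 1) * swap (f 1) (f 2) * a⁻¹ *
              (swap (f 0) (f 1) * swap (f 1) (f 2))⁻¹) =
              (a * (swap (f 0) (f 1) * swap (f 1) (f 2)) * a⁻¹) *
                (swap (f 0) (f 1) * swap (f 1) (f 2))⁻¹ := by group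
          rw [e4, e3]
          have := congrArg (Perm.viaEmbeddingHom f)
            (show (swap (1 : Fin 5) 2 * swap 2 3) * (swap 0 1 * swap 1 2)⁻¹ =
              swap 0 3 * swap 3 1 by decide)
          simpa [map_mul, map_inv, via_swap] using this
        have hcube : (swap (f 0) (f 3) * swap (f 3) (f 1)) ^ 3 = 1 := by
          have := congrArg (Perm.viaEmbeddingHom f)
            (show (swap (0 : Fin 5) 3 * swap 3 1) ^ 3 = 1 by decide)
          simpa [map_mul, map_pow, via_swap] using this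
        have hne1 : swap (f 0) (f 3) * swap (f 3) (f 1) ≠ 1 := by
          intro h
          have h1 : Perm.viaEmbeddingHom f (swap (0 : Fin 5) 3 * swap 3 1) =
              Perm.viaEmbeddingHom f 1 := by
            simpa [map_mul, via_swap] using h
          exact absurd (Perm.viaEmbeddingHom_injective f h1) (by decide)
        haveI : Fact (Nat.Prime 3) := ⟨Nat.prime_three⟩
        have hord : orderOf (swap (f 0) (f 3) * swap (f 3) (f 1)) = 3 := orderOf_eq_prime hcube hne1
        refine ⟨?_, ?_⟩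
        · rw [hπ, hord]
          rintro ⟨k, hk⟩
          rcases k with _ | k
          · simp at hk
          · have : p ∣ 3 := by rw [hk]; exact dvd_pow_self p (Nat.succ_ne_zero k)
            exact hp3' ((Nat.prime_dvd_prime_iff_eq hp Nat.prime_three).1 this)
        · set H : Subgroup (Perm Δ) := Subgroup.closure ({a, swap (f 0) (f 1) * swap (f 1) (f 2) * a⁻¹ *
            (swap (f 0) (f 1) * swap (f 1) (f 2))⁻¹} : Set (Perm Δ)) with hH
          have haH : a ∈ H := Subgroup.subset_closure (by simp)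
          have hμH : swap (f 0) (f 1) * swap (f 1) (f 2) * a⁻¹ *
            (swap (f 0) (f 1) * swap (f 1) (f 2))⁻¹ ∈ H := Subgroup.subset_closure (by simp)
          have hπH : swap (f 0) (f 3) * swap (f 3) (f 1) ∈ H := by
            rw [← hπ]; exact H.mul_mem haH hμH
          have e5 := conj_swap_one a x₀ 1 4
          have e6 := conj_swap_one a x₀ 4 2
          have e7 : a * (swap (f 0) (f 3) * swap (f 3) (f 1)) * a⁻¹ =
              swap (f 1) (f 4) * swap (f 4) (f 2) := by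
            calc a * (swap (f 0) (f 3) * swap (f 3) (f 1)) * a⁻¹
                = (a * swap ((a ^ 1) x₀) ((a ^ 4) x₀) * a⁻¹) *
                    (a * swap ((a ^ 4) x₀) ((a ^ 2) x₀) * a⁻¹) := by
                  show a * (swap ((a ^ 1) x₀) ((a ^ 4) x₀) * swap ((a ^ 4) x₀) ((a ^ 2) x₀)) * a⁻¹ = _
                  group
              _ = _ := by rw [e5, e6]; rfl
          have hπ'H : swap (f 1) (f 4) * swap (f 4) (f 2) ∈ H := by
            rw [← e7]; exact H.mul_mem (H.mul_mem haH hπH) (H.inv_mem haH)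
          have hnd : [f 0, f 3, f 1, f 4, f 2].Nodup := by
            simp [f.injective.eq_iff]
          exact hNS5 Δ H (f 0) (f 3) (f 1) (f 4) (f 2) hnd hπH hπ'H
  obtain ⟨θ₂, hs2, h2⟩ := h2
  refine ⟨swap ((a ^ 1) x₀) ((a ^ 3) x₀) * g₀, θ₂ * g₀, ?_, ?_, ?_⟩
  · rw [Perm.sign_mul, Perm.sign_mul, hs1, hs2]
    intro h
    rcases Int.units_eq_one_or (Perm.sign g₀) with h' | h' <;> rw [h'] at h <;>
      exact absurd h (by decide)
  · have : swap ((a ^ 1) x₀) ((a ^ 3) x₀) * g₀ * b * (swap ((a ^ 1) x₀) ((a ^ 3) x₀) * g₀)⁻¹ =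
        swap ((a ^ 1) x₀) ((a ^ 3) x₀) * (g₀ * b * g₀⁻¹) * (swap ((a ^ 1) x₀) ((a ^ 3) x₀))⁻¹ := by
      group
    rw [this, hg₀]; exact h1
  · have : θ₂ * g₀ * b * (θ₂ * g₀)⁻¹ = θ₂ * (g₀ * b * g₀⁻¹) * θ₂⁻¹ := by group
    rw [this, hg₀]; exact h2

end Cfsg.Agent.Lib.Helper84.APair
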